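import Mathlib.Algebra.BigOperators.Group.Finset.Basic
import Mathlib.Algebra.BigOperators.Ring.Finset
import Mathlib.Algebra.Field.ZMod
import Mathlib.Algebra.Group.Subgroup.Basic
import Mathlib.Data.List.Perm.Subperm
import Mathlib.Tactic.Abel
import Mathlib.Tactic.Ring

/-!
# Lie rings graded by `ZMod p` with trivial zero component

The Lie ring is an additive group with a biadditive map `B`, skew and satisfying the Leibniz form
of Jacobi. Graded subrings are families `F : ZMod p → AddSubgroup A` below the grading `D`.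

* `derSeries_eq_bot` (Kreknin): a graded subring has derived length `≤ 2^(p-1) - 1`.
* `lowerSeries_eq_bot_of_derSeries` (Kreknin–Kostrikin): derived length `≤ d` gives class
  `≤ ∑_{i<d} (p-1)^i`.
* `lowerSeries_two_eq_bot`: class `≤ 2` for `p = 3`.
-/

set_option autoImplicit false

namespace Cfsg.Agent.LieGraded

universe u

variable {A : Type u} [AddCommGroup A] {p : ℕ}

/-- The span of products of two graded families, componentwise. -/
def brFam (B : A →+ A →+ A) (X Y : ZMod p → AddSubgroup A) : ZMod p → AddSubgroup A := fun c =>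
  AddSubgroup.closure {z | ∃ a b : ZMod p, a + b = c ∧ ∃ x ∈ X a, ∃ y ∈ Y b, B x y = z}

theorem mem_brFam {B : A →+ A →+ A} {X Y : ZMod p → AddSubgroup A} {a b : ZMod p} {x y : A}
    (hx : x ∈ X a) (hy : y ∈ Y b) : B x y ∈ brFam B X Y (a + b) :=
  AddSubgroup.subset_closure ⟨a, b, rfl, x, hx, y, hy, rfl⟩

theorem brFam_le {B : A →+ A →+ A} {X Y Z : ZMod p → AddSubgroup A}
    (h : ∀ a b, ∀ x ∈ X a, ∀ y ∈ Y b, B x y ∈ Z (a + b)) : brFam B X Y ≤ Z := by
  intro c
  rw [brFam, AddSubgroup.closure_le]
  rintro _ ⟨a, b, rfl, x, hx, y, hy, rfl⟩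
  exact h a b x hx y hy

theorem brFam_mono {B : A →+ A →+ A} {X X' Y Y' : ZMod p → AddSubgroup A} (hX : X ≤ X') (hY : Y ≤ Y') :
    brFam B X Y ≤ brFam B X' Y' :=
  brFam_le fun a b _ hx _ hy => mem_brFam (hX a hx) (hY b hy)

theorem brFam_bot {B : A →+ A →+ A} (Y : ZMod p → AddSubgroup A) : brFam B ⊥ Y = ⊥ :=
  le_bot_iff.1 <| brFam_le fun a b x hx y _ => by
    have hx0 : x = 0 := hx
    simp [hx0]

/-- The derived series of a family. -/
def derSeries (B : A →+ A →+ A) (F : ZMod p → AddSubgroup A) : ℕ → ZMod p → AddSubgroup A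
  | 0 => F
  | n + 1 => brFam B (derSeries B F n) (derSeries B F n)

/-- The lower central series of a family. -/
def lowerSeries (B : A →+ A →+ A) (F : ZMod p → AddSubgroup A) : ℕ → ZMod p → AddSubgroup A
  | 0 => F
  | n + 1 => brFam B (lowerSeries B F n) F

/-- Bracketing `n` times with `F`. -/
def iterFam (B : A →+ A →+ A) (F : ZMod p → AddSubgroup A) : ℕ → (ZMod p → AddSubgroup A) →
    ZMod p → AddSubgroup A
  | 0, X => X
  | n + 1, X => iterFam B F n (brFam B X F)

theorem derSeries_add (B : A →+ A →+ A) (F : ZMod p → AddSubgroup A) (a b : ℕ) :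
    derSeries B F (a + b) = derSeries B (derSeries B F a) b := by
  induction b with
  | zero => rfl
  | succ b ih => rw [← Nat.add_assoc, derSeries, derSeries, ih]

theorem derSeries_mono {B : A →+ A →+ A} {F F' : ZMod p → AddSubgroup A} (h : F ≤ F') (n : ℕ) :
    derSeries B F n ≤ derSeries B F' n := by
  induction n with
  | zero => exact h
  | succ n ih => exact brFam_mono ih ih

theorem iterFam_eq (B : A →+ A →+ A) (F : ZMod p → AddSubgroup A) (n m : ℕ) :
    lowerSeries B F (m + n) = iterFam B F n (lowerSeries B F m) := by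
  induction n generalizing m with
  | zero => rfl
  | succ n ih => rw [iterFam, show m + (n + 1) = (m + 1) + n by omega, ih, lowerSeries]

/-- A grading with trivial zero component on a Lie ring. -/
structure IsGrading (B : A →+ A →+ A) (D : ZMod p → AddSubgroup A) : Prop where
  skew : ∀ x y, B x y = - B y x
  jacobi : ∀ x y z, B (B x y) z = B (B x z) y + B x (B y z)
  mul_mem : brFam B D D ≤ D
  zero : D 0 = ⊥

/-- A graded subring. -/
structure IsGradedSub (B : A →+ A →+ A) (D F : ZMod p → AddSubgroup A) : Prop where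
  le : F ≤ D
  closed : brFam B F F ≤ F

theorem isGradedSub_self {B : A →+ A →+ A} {D : ZMod p → AddSubgroup A} (h : IsGrading B D) :
    IsGradedSub B D D := ⟨le_rfl, h.mul_mem⟩

theorem isGradedSub_derived {B : A →+ A →+ A} {D F : ZMod p → AddSubgroup A} (hF : IsGradedSub B D F) :
    IsGradedSub B D (brFam B F F) :=
  ⟨hF.closed.trans hF.le, brFam_mono hF.closed hF.closed⟩

theorem isGradedSub_derSeries {B : A →+ A →+ A} {D F : ZMod p → AddSubgroup A}
    (hF : IsGradedSub B D F) (n : ℕ) : IsGradedSub B D (derSeries B F n) := by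
  induction n with
  | zero => exact hF
  | succ n ih => exact isGradedSub_derived ih

theorem derSeries_le {B : A →+ A →+ A} {D F : ZMod p → AddSubgroup A} (hF : IsGradedSub B D F) (n : ℕ) :
    derSeries B F n ≤ F := by
  induction n with
  | zero => exact le_rfl
  | succ n ih => exact (brFam_mono ih ih).trans hF.closed

/-! ### Kreknin's theorem -/

/-- Left normed products of generators of degree at least `k`. -/
inductive GenProd (B : A →+ A →+ A) (F : ZMod p → AddSubgroup A) (k : ℕ) : ZMod p → A → Prop
  | base {j : ZMod p} {x : A} (hk : k ≤ j.val) (hx : x ∈ F j) : GenProd B F k j x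
  | mul {i j : ZMod p} {u x : A} (hu : GenProd B F k i u) (hk : k ≤ j.val) (hx : x ∈ F j) :
      GenProd B F k (i + j) (B u x)

/-- The subring generated by the components of degree at least `k`. -/
def genFam (B : A →+ A →+ A) (F : ZMod p → AddSubgroup A) (k : ℕ) : ZMod p → AddSubgroup A :=
  fun c => AddSubgroup.closure {z | GenProd B F k c z}

theorem mem_genFam_of_le {B : A →+ A →+ A} {F : ZMod p → AddSubgroup A} {k : ℕ} {j : ZMod p} {x : A}
    (hk : k ≤ j.val) (hx : x ∈ F j) : x ∈ genFam B F k j :=
  AddSubgroup.subset_closure (GenProd.base hk hx)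

theorem genProd_mem {B : A →+ A →+ A} {D F : ZMod p → AddSubgroup A} (hF : IsGradedSub B D F) {k : ℕ}
    {c : ZMod p} {u : A} (hu : GenProd B F k c u) : u ∈ F c := by
  induction hu with
  | base _ hx => exact hx
  | mul _ _ hx ih => exact hF.closed _ (mem_brFam ih hx)

theorem genFam_mul_gen {B : A →+ A →+ A} {F : ZMod p → AddSubgroup A} {k : ℕ} {a b : ZMod p} {u l : A}
    (hu : u ∈ genFam B F k a) (hk : k ≤ b.val) (hl : l ∈ F b) : B u l ∈ genFam B F k (a + b) := by
  induction hu using AddSubgroup.closure_induction with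
  | mem z hz => exact AddSubgroup.subset_closure (GenProd.mul hz hk hl)
  | zero => simp
  | add x y _ _ hx hy => rw [map_add, AddMonoidHom.add_apply]; exact add_mem hx hy
  | neg x _ hx => rw [map_neg, AddMonoidHom.neg_apply]; exact neg_mem hx

theorem genFam_closed {B : A →+ A →+ A} {D : ZMod p → AddSubgroup A} (hD : IsGrading B D)
    (F : ZMod p → AddSubgroup A) (k : ℕ) : brFam B (genFam B F k) (genFam B F k) ≤ genFam B F k := by
  have key : ∀ b v, GenProd B F k b v → ∀ a u, u ∈ genFam B F k a → B u v ∈ genFam B F k (a + b) := by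
    intro b v hv
    induction hv with
    | base hk hx => exact fun a u hu => genFam_mul_gen hu hk hx
    | @mul i j v l _ hk hl ih =>
      intro a u hu
      have h1 : B u (B v l) = B (B u v) l - B (B u l) v := by
        rw [hD.jacobi u v l]; abel
      rw [h1]
      refine sub_mem ?_ ?_
      · rw [← add_assoc]; exact genFam_mul_gen (ih a u hu) hk hl
      · rw [show a + (i + j) = a + j + i by ring]; exact ih _ _ (genFam_mul_gen hu hk hl)
  refine brFam_le fun a b x hx y hy => ?_
  induction hy using AddSubgroup.closure_induction with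
  | mem z hz => exact key b z hz a x hx
  | zero => simp
  | add u v _ _ hu hv => rw [map_add]; exact add_mem hu hv
  | neg u _ hu => rw [map_neg]; exact neg_mem hu

theorem mul_mem_succ {B : A →+ A →+ A} {D F : ZMod p → AddSubgroup A} [NeZero p] (hD : IsGrading B D)
    (hF : IsGradedSub B D F) {k : ℕ} (hk1 : 1 ≤ k) (hkp : k < p) {i : ZMod p} {u : A}
    (hu : GenProd B F k i u) :
    ∀ b ∈ F ((k : ZMod p) - i), B u b ∈ genFam B F (k + 1) (k : ZMod p) := by
  have hkv : (k : ZMod p).val = k := ZMod.val_natCast_of_lt hkp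
  have hzero : ∀ c : ZMod p, ∀ z ∈ F c, c = 0 → z = 0 := fun c z hz hc => by
    have := hF.le c hz
    rwa [hc, hD.zero] at this
  have hhigh : ∀ j : ZMod p, k < j.val → ∀ x ∈ F j, ∀ b ∈ F ((k : ZMod p) - j),
      B x b ∈ genFam B F (k + 1) (k : ZMod p) := by
    intro j hj x hx b hb
    have h2 : ((k : ZMod p) - j).val = k + p - j.val := by
      have h1 : ((k : ZMod p) - j) = ((k + p - j.val : ℕ) : ZMod p) := by
        rw [Nat.cast_sub (by have := ZMod.val_lt j; omega), Nat.cast_add, ZMod.natCast_self,
          ZMod.natCast_zmod_val, add_zero]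
      rw [h1, ZMod.val_natCast_of_lt (by omega)]
    have hj' := ZMod.val_lt j
    have := genFam_mul_gen (mem_genFam_of_le (B := B) (k := k + 1) hj hx)
      (b := (k : ZMod p) - j) (l := b) (by omega) hb
    rwa [add_sub_cancel] at this
  induction hu with
  | @base j x hj hx =>
    intro b hb
    rcases eq_or_lt_of_le hj with h | h
    · have hjk : j = (k : ZMod p) := by rw [h, ZMod.natCast_zmod_val]
      rw [hzero _ b hb (by rw [hjk, sub_self]), map_zero]
      exact zero_mem _
    · exact hhigh j h x hx b hb
  | @mul i j v l hv hj hl ih =>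
    intro b hb
    rw [hD.jacobi v l b]
    refine add_mem ?_ ?_
    · have hvb : B v b ∈ F (i + ((k : ZMod p) - (i + j))) :=
        hF.closed _ (mem_brFam (genProd_mem hF hv) hb)
      rw [show i + ((k : ZMod p) - (i + j)) = (k : ZMod p) - j by ring] at hvb
      rcases eq_or_lt_of_le hj with h | h
      · have hjk : j = (k : ZMod p) := by rw [h, ZMod.natCast_zmod_val]
        rw [hzero _ _ hvb (by rw [hjk, sub_self]), map_zero, AddMonoidHom.zero_apply]
        exact zero_mem _
      · rw [hD.skew]
        exact neg_mem (hhigh j h l hl _ hvb)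
    · refine ih _ ?_
      have := hF.closed _ (mem_brFam hl hb)
      rwa [show j + ((k : ZMod p) - (i + j)) = (k : ZMod p) - i by ring] at this

theorem derSeries_le_genFam {B : A →+ A →+ A} {D : ZMod p → AddSubgroup A} [NeZero p] (hD : IsGrading B D)
    (k : ℕ) : k < p → ∀ F, IsGradedSub B D F → derSeries B F (2 ^ k - 1) ≤ genFam B F (k + 1) := by
  induction k with
  | zero =>
    intro _ F hF c x hx
    rcases eq_or_ne c 0 with rfl | hc
    · have h0 := hF.le 0 hx
      rw [hD.zero] at h0
      rw [show x = 0 from h0]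
      exact zero_mem _
    · exact mem_genFam_of_le (Nat.one_le_iff_ne_zero.2 fun h => hc ((ZMod.val_eq_zero c).1 h)) hx
  | succ k ih =>
    intro hk F hF
    have hk' : k < p := by omega
    set N := 2 ^ k with hN
    have hN1 : 1 ≤ N := Nat.one_le_two_pow
    have hkv : ((k + 1 : ℕ) : ZMod p).val = k + 1 := ZMod.val_natCast_of_lt hk
    -- the components of degree `≥ k + 1` of `F^(N)` lie in the next subring
    have hM : ∀ c : ZMod p, k + 1 ≤ c.val → derSeries B F N c ≤ genFam B F (k + 1 + 1) c := by
      intro c hc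
      rcases eq_or_lt_of_le hc with h | h
      · have hck : c = ((k + 1 : ℕ) : ZMod p) := by rw [h, ZMod.natCast_zmod_val]
        rw [show N = (N - 1) + 1 by omega, derSeries, brFam, AddSubgroup.closure_le]
        rintro _ ⟨i, j, hij, a, ha, b, hb, rfl⟩
        have hb' : b ∈ F (((k + 1 : ℕ) : ZMod p) - i) := by
          rw [← hck, ← hij, add_sub_cancel_left]
          exact derSeries_le hF _ j hb
        have ha' := ih hk' F hF i ha
        rw [hck]
        clear ha
        induction ha' using AddSubgroup.closure_induction with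
        | mem z hz => exact mul_mem_succ hD hF (by omega) hk hz b hb'
        | zero => simp
        | add u v _ _ hu hv => rw [map_add, AddMonoidHom.add_apply]; exact add_mem hu hv
        | neg u _ hu => rw [map_neg, AddMonoidHom.neg_apply]; exact neg_mem hu
      · intro x hx
        exact mem_genFam_of_le h (derSeries_le hF N c hx)
    have hgen : genFam B (derSeries B F N) (k + 1) ≤ genFam B F (k + 1 + 1) := by
      intro c
      rw [genFam, AddSubgroup.closure_le]
      intro z hz
      induction hz with
      | base hj hx => exact hM _ hj hx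
      | mul _ hj hx ih' => exact genFam_closed hD F _ _ (mem_brFam ih' (hM _ hj hx))
    rw [show 2 ^ (k + 1) - 1 = N + (N - 1) by rw [pow_succ]; omega, derSeries_add]
    exact (ih hk' _ (isGradedSub_derSeries hF N)).trans hgen

/-- **Kreknin's theorem** for a prime (or any) modulus. -/
theorem derSeries_eq_bot {B : A →+ A →+ A} {D F : ZMod p → AddSubgroup A} [NeZero p]
    (hD : IsGrading B D) (hF : IsGradedSub B D F) : derSeries B F (2 ^ (p - 1) - 1) = ⊥ := by
  refine le_bot_iff.1 ((derSeries_le_genFam hD (p - 1) (by have := NeZero.pos p; omega) F hF).trans ?_)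
  intro c
  rw [genFam, AddSubgroup.closure_le]
  intro z hz
  exfalso
  induction hz with
  | @base j _ hj _ => have := ZMod.val_lt j; omega
  | @mul _ j _ _ _ hj _ _ => have := ZMod.val_lt j; omega

/-! ### The Kreknin–Kostrikin bound -/

/-- Sums of sublists of a list of nonzero residues fill at least `min p (length + 1)` residues. -/
theorem exists_sublist_sums [Fact p.Prime] {α : Type u} (d : α → ZMod p) :
    ∀ L : List α, (∀ e ∈ L, d e ≠ 0) → ∃ S : Finset (ZMod p), min p (L.length + 1) ≤ S.card ∧
      ∀ s ∈ S, ∃ L' : List α, List.Sublist L' L ∧ (L'.map d).sum = s := by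
  intro L
  induction L with
  | nil =>
    intro _
    refine ⟨({0} : Finset (ZMod p)), by simp, fun s hs => ⟨[], List.Sublist.refl _, ?_⟩⟩
    rw [Finset.mem_singleton] at hs
    simp [hs]
  | cons e L ih =>
    intro h
    obtain ⟨S, hS, hS'⟩ := ih fun x hx => h x (List.mem_cons_of_mem e hx)
    classical
    refine ⟨S ∪ S.image (d e + ·), ?_, fun s hs => ?_⟩
    · by_cases hsub : S.image (d e + ·) ⊆ S
      · have hne : S.Nonempty := by
          rw [← Finset.card_pos]
          have := (Fact.out : p.Prime).pos
          omega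
        obtain ⟨s, hs⟩ := hne
        have hall : ∀ n : ℕ, (n : ZMod p) * d e + s ∈ S := by
          intro n
          induction n with
          | zero => simpa using hs
          | succ n ihn =>
            have := hsub (Finset.mem_image_of_mem _ ihn)
            rwa [show ((n + 1 : ℕ) : ZMod p) * d e + s = d e + ((n : ZMod p) * d e + s) by push_cast; ring]
        have : S ∪ S.image (d e + ·) = Finset.univ := by
          refine Finset.eq_univ_of_forall fun x => Finset.mem_union_left _ ?_
          have := hall ((x - s) * (d e)⁻¹).val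
          rwa [ZMod.natCast_zmod_val, mul_assoc, inv_mul_cancel₀ (h e (List.mem_cons_self ..)),
            mul_one, sub_add_cancel] at this
        rw [this, Finset.card_univ, ZMod.card]
        exact min_le_left _ _
      · have hlt : S.card < (S ∪ S.image (d e + ·)).card :=
          Finset.card_lt_card (Finset.ssubset_iff_subset_ne.2 ⟨Finset.subset_union_left,
            fun heq => hsub (Finset.union_eq_left.1 heq.symm)⟩)
        simp only [List.length_cons] at hS ⊢
        omega
    · rcases Finset.mem_union.1 hs with hs | hs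
      · obtain ⟨L', hL', hsum⟩ := hS' s hs
        exact ⟨L', hL'.trans (List.sublist_cons_self e L), hsum⟩
      · obtain ⟨t, ht, rfl⟩ := Finset.mem_image.1 hs
        obtain ⟨L', hL', hsum⟩ := hS' t ht
        exact ⟨e :: L', hL'.cons_cons e, by simp [hsum]⟩

/-- Iterated bracket with a list of homogeneous elements. -/
def foldBr (B : A →+ A →+ A) (a : A) (L : List (ZMod p × A)) : A := L.foldl (fun z e => B z e.2) a

theorem foldBr_sub (B : A →+ A →+ A) (L : List (ZMod p × A)) (a b : A) :
    foldBr B (a - b) L = foldBr B a L - foldBr B b L := by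
  induction L generalizing a b with
  | nil => rfl
  | cons e L ih =>
    simp only [foldBr, List.foldl_cons] at ih ⊢
    rw [map_sub, AddMonoidHom.sub_apply, ih]

theorem foldBr_mem {B : A →+ A →+ A} {Y F : ZMod p → AddSubgroup A} (hY : brFam B Y F ≤ Y) :
    ∀ (L : List (ZMod p × A)), (∀ e ∈ L, e.2 ∈ F e.1) → ∀ c, ∀ a ∈ Y c,
      foldBr B a L ∈ Y (c + (L.map Prod.fst).sum) := by
  intro L
  induction L with
  | nil => intro _ c a ha; simpa [foldBr] using ha
  | cons e L ih =>
    intro h c a ha
    have := ih (fun x hx => h x (List.mem_cons_of_mem e hx)) (c + e.1) (B a e.2)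
      (hY _ (mem_brFam ha (h e (List.mem_cons_self ..))))
    simpa [foldBr, add_assoc] using this

theorem iterFam_le {B : A →+ A →+ A} {F Y : ZMod p → AddSubgroup A} :
    ∀ (n : ℕ) (X : ZMod p → AddSubgroup A), (∀ c, ∀ a ∈ X c, ∀ L : List (ZMod p × A), L.length = n →
      (∀ e ∈ L, e.2 ∈ F e.1) → foldBr B a L ∈ Y (c + (L.map Prod.fst).sum)) →
      iterFam B F n X ≤ Y := by
  intro n
  induction n with
  | zero =>
    intro X h c a ha
    simpa [foldBr] using h c a ha [] rfl (by simp)
  | succ n ih =>
    intro X h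
    refine ih _ fun c a ha => ?_
    induction ha using AddSubgroup.closure_induction with
    | mem z hz =>
      obtain ⟨i, j, rfl, x, hx, y, hy, rfl⟩ := hz
      intro L hL hLF
      have := h i x hx ((j, y) :: L) (by simp [hL]) (by
        intro e he
        rcases List.mem_cons.1 he with rfl | he
        · exact hy
        · exact hLF e he)
      simpa [foldBr, add_assoc] using this
    | zero =>
      intro L _ _
      have := foldBr_sub B L (0 : A) 0
      rw [sub_self, sub_self] at this
      rw [this]; exact zero_mem _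
    | add u v _ _ hu hv =>
      intro L hL hLF
      have := foldBr_sub B L (u + v) v
      rw [add_sub_cancel_right] at this
      rw [← sub_add_cancel (foldBr B (u + v) L) (foldBr B v L), ← this]
      exact add_mem (hu L hL hLF) (hv L hL hLF)
    | neg u _ hu =>
      intro L hL hLF
      have h0 := foldBr_sub B L u u
      have := foldBr_sub B L 0 u
      rw [sub_self, sub_self] at h0
      rw [zero_sub, h0, zero_sub] at this
      rw [this]
      exact neg_mem (hu L hL hLF)

theorem foldBr_perm {B : A →+ A →+ A} {D F X Y : ZMod p → AddSubgroup A} (hD : IsGrading B D)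
    (hX : brFam B X F ≤ X) (hY : brFam B Y F ≤ Y) (hXY : brFam B X (brFam B F F) ≤ Y)
    {L L' : List (ZMod p × A)} (hp : L.Perm L') :
    (∀ e ∈ L, e.2 ∈ F e.1) → ∀ c, ∀ a ∈ X c,
      foldBr B a L - foldBr B a L' ∈ Y (c + (L.map Prod.fst).sum) := by
  induction hp with
  | nil => intro _ c a _; rw [sub_self]; exact zero_mem _
  | @cons e L L' _ ih =>
    intro h c a ha
    have := ih (fun x hx => h x (List.mem_cons_of_mem e hx)) _ _
      (hX _ (mem_brFam ha (h e (List.mem_cons_self ..))))
    simpa [foldBr, add_assoc] using this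
  | swap e e' L =>
    intro h c a ha
    have he : e.2 ∈ F e.1 := h e (List.mem_cons_of_mem _ (List.mem_cons_self ..))
    have he' : e'.2 ∈ F e'.1 := h e' (List.mem_cons_self ..)
    have h1 : B (B a e'.2) e.2 - B (B a e.2) e'.2 = B a (B e'.2 e.2) := by
      rw [hD.jacobi a e'.2 e.2]; abel
    have h2 := foldBr_mem hY L (fun x hx => h x (List.mem_cons_of_mem _ (List.mem_cons_of_mem _ hx)))
      _ _ (hXY _ (mem_brFam ha (mem_brFam he' he)))
    rw [← h1, foldBr_sub] at h2
    simpa [foldBr, add_assoc] using h2
  | @trans L₁ L₂ L₃ h12 _ ih ih' =>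
    intro h c a ha
    have hh := h12.map (Prod.fst : ZMod p × A → ZMod p)
    have := add_mem (ih h c a ha) (hh.sum_eq ▸ ih' (fun x hx => h x (h12.mem_iff.2 hx)) c a ha)
    rwa [sub_add_sub_cancel] at this

theorem iterFam_sub_one_le [Fact p.Prime] {B : A →+ A →+ A} {D F X Y : ZMod p → AddSubgroup A}
    (hD : IsGrading B D) (hF : IsGradedSub B D F) (hXD : X ≤ D) (hX : brFam B X F ≤ X)
    (hY : brFam B Y F ≤ Y) (hXY : brFam B X (brFam B F F) ≤ Y) : iterFam B F (p - 1) X ≤ Y := by
  refine iterFam_le _ _ fun c a ha L hL hLF => ?_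
  -- enough: some rearrangement passes through the zero component
  suffices h : ∃ L', L.Perm L' ∧ foldBr B a L' = 0 by
    obtain ⟨L', hp, h0⟩ := h
    have := foldBr_perm hD hX hY hXY hp hLF c a ha
    rwa [h0, sub_zero] at this
  have hzero : ∀ M : List (ZMod p × A), foldBr B 0 M = 0 := fun M => by
    have := foldBr_sub B M (0 : A) 0
    rwa [sub_self, sub_self] at this
  by_cases hz : ∃ e ∈ L, e.1 = 0
  · obtain ⟨e, he, he0⟩ := hz
    obtain ⟨l₁, l₂, rfl⟩ := List.append_of_mem he
    refine ⟨e :: (l₁ ++ l₂), List.perm_middle, ?_⟩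
    have h0 := hF.le _ (hLF e he)
    rw [he0, hD.zero] at h0
    have : foldBr B a (e :: (l₁ ++ l₂)) = foldBr B (B a e.2) (l₁ ++ l₂) := rfl
    rw [this, show e.2 = 0 from h0, map_zero, hzero]
  · push Not at hz
    rcases eq_or_ne c 0 with rfl | hc
    · have h0 := hXD _ ha
      rw [hD.zero] at h0
      exact ⟨L, List.Perm.refl L, by rw [show a = 0 from h0]; exact hzero L⟩
    obtain ⟨S, hS, hS'⟩ := exists_sublist_sums (Prod.fst : ZMod p × A → ZMod p) L hz
    have : S = Finset.univ := by
      refine Finset.eq_univ_of_card S (le_antisymm ?_ ?_)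
      · exact S.card_le_univ
      · rw [ZMod.card]
        have := (Fact.out : p.Prime).one_lt
        omega
    obtain ⟨L₁, hsub, hsum⟩ := hS' (-c) (this ▸ Finset.mem_univ _)
    obtain ⟨L₂, hp⟩ := hsub.exists_perm_append
    refine ⟨L₁ ++ L₂, hp, ?_⟩
    have h0 := foldBr_mem (F := F) ((brFam_mono le_rfl hF.le).trans hD.mul_mem) L₁
      (fun e he => hLF e (hsub.subset he)) c a (hXD c ha)
    rw [hsum, add_neg_cancel, hD.zero] at h0
    have : foldBr B a (L₁ ++ L₂) = foldBr B (foldBr B a L₁) L₂ := List.foldl_append ..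
    rw [this, show foldBr B a L₁ = 0 from h0, hzero]

/-- **Kreknin–Kostrikin**: a graded subring of derived length `≤ d` has class `≤ ξ(d)`. -/
theorem lowerSeries_eq_bot_of_derSeries [Fact p.Prime] {B : A →+ A →+ A} {D : ZMod p → AddSubgroup A}
    (hD : IsGrading B D) (d : ℕ) : ∀ F, IsGradedSub B D F → derSeries B F d = ⊥ →
      lowerSeries B F (∑ i ∈ Finset.range d, (p - 1) ^ i) = ⊥ := by
  induction d with
  | zero =>
    intro F _ h
    simpa [lowerSeries, derSeries] using h
  | succ d ih =>
    intro F hF h
    set M := brFam B F F with hM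
    have hMsub : IsGradedSub B D M := isGradedSub_derived hF
    have hMd : derSeries B M d = ⊥ := by
      rw [← h, Nat.add_comm d 1, derSeries_add]
      rfl
    set Mj := lowerSeries B M with hMj
    have hMF : brFam B M F ≤ M := brFam_mono hF.closed le_rfl
    have hMjD : ∀ j, Mj j ≤ D := by
      intro j
      induction j with
      | zero => exact hMsub.le
      | succ j ihj => exact (brFam_mono ihj hMsub.le).trans hD.mul_mem
    have hideal : ∀ j, brFam B (Mj j) F ≤ Mj j := by
      intro j
      induction j with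
      | zero => exact hMF
      | succ j ihj =>
        refine brFam_le fun a b x hx y hy => ?_
        induction hx using AddSubgroup.closure_induction with
        | mem z hz =>
          obtain ⟨i, i', rfl, m, hm, m', hm', rfl⟩ := hz
          rw [hD.jacobi m m' y]
          refine add_mem ?_ ?_
          · rw [show i + i' + b = i + b + i' by ring]
            exact mem_brFam (ihj _ (mem_brFam hm hy)) hm'
          · rw [add_assoc]
            exact mem_brFam hm (hMF _ (mem_brFam hm' hy))
        | zero => simp
        | add u v _ _ hu hv => rw [map_add, AddMonoidHom.add_apply]; exact add_mem hu hv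
        | neg u _ hu => rw [map_neg, AddMonoidHom.neg_apply]; exact neg_mem hu
    have hstep : ∀ j, lowerSeries B F (1 + (p - 1) * j) ≤ Mj j := by
      intro j
      induction j with
      | zero => exact le_rfl
      | succ j ihj =>
        rw [Nat.mul_succ, ← Nat.add_assoc, iterFam_eq]
        have hmono : ∀ n (X X' : ZMod p → AddSubgroup A), X ≤ X' → iterFam B F n X ≤ iterFam B F n X' := by
          intro n
          induction n with
          | zero => exact fun _ _ h => h
          | succ n ihn => exact fun X X' h => ihn _ _ (brFam_mono h le_rfl)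
        exact (hmono _ _ _ ihj).trans
          (iterFam_sub_one_le hD hF (hMjD j) (hideal j) (hideal (j + 1)) le_rfl)
    refine le_bot_iff.1 (le_of_eq_of_le ?_ ((hstep _).trans (ih M hMsub hMd).le))
    congr 1
    rw [Finset.sum_range_succ', Finset.mul_sum, Nat.add_comm]
    simp [pow_succ']

/-- For `p = 3` the class is at most two. -/
theorem lowerSeries_two_eq_bot {B : A →+ A →+ A} {D : ZMod 3 → AddSubgroup A} (hD : IsGrading B D) :
    lowerSeries B D 2 = ⊥ := by
  refine le_bot_iff.1 (brFam_le fun c l x hx z hz => ?_)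
  induction hx using AddSubgroup.closure_induction with
  | mem w hw =>
    obtain ⟨i, j, rfl, x, hx, y, hy, rfl⟩ := hw
    have hz0 : ∀ e : ZMod 3, ∀ w ∈ D e, e = 0 → w = 0 := fun e w hw he => by
      rw [he, hD.zero] at hw
      exact hw
    have hmem : ∀ e e' : ZMod 3, ∀ u ∈ D e, ∀ v ∈ D e', B u v ∈ D (e + e') := fun e e' u hu v hv =>
      hD.mul_mem _ (mem_brFam hu hv)
    have htri : ∀ i j l : ZMod 3, i = 0 ∨ j = 0 ∨ l = 0 ∨ i + j = 0 ∨ i + j + l = 0 ∨
        (i + l = 0 ∧ j + l = 0) := by decide
    show B (B x y) z = 0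
    rcases htri i j l with h | h | h | h | h | ⟨h, h'⟩
    · rw [hz0 i x hx h]; simp
    · rw [hz0 j y hy h]; simp
    · rw [hz0 l z hz h]; simp
    · rw [hz0 _ _ (hmem i j x hx y hy) h]; simp
    · rw [hz0 _ _ (hmem _ _ _ (hmem i j x hx y hy) z hz) h]
    · rw [hD.jacobi, hz0 _ _ (hmem i l x hx z hz) h, hz0 _ _ (hmem j l y hy z hz) h']; simp
  | zero => simp
  | add u v _ _ hu hv => rw [map_add, AddMonoidHom.add_apply]; exact add_mem hu hv
  | neg u _ hu => rw [map_neg, AddMonoidHom.neg_apply]; exact neg_mem hu

end Cfsg.Agent.LieGraded
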