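import Mathlib.Algebra.BigOperators.Pi
import Mathlib.GroupTheory.Nilpotent
import Mathlib.GroupTheory.OrderOfElement
import Mathlib.GroupTheory.QuotientGroup.Basic
import Mathlib.Tactic.Group
import Mathlib.Tactic.LinearCombination
import Cfsg.Agent.Lib.LieGraded.Kreknin

/-!
# The associated Lie ring of a group, truncated

`Ring G m = ∀ i : Fin m, γ_i / γ_{i+1}` with the bracket induced by commutators, and
`gen m k x` the class of `x ∈ γ_k` (`0` if `m ≤ k`).
-/

set_option autoImplicit false

namespace Cfsg.Agent.LieGraded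

open Subgroup
open scoped commutatorElement

universe u

variable (G : Type u) [Group G]

/-- The `i`-th term of the lower central series, starting at `0`. -/
abbrev gam (i : ℕ) : Subgroup G := (⊤ : Subgroup G).lowerCentralSeries i

theorem gam_antitone {i j : ℕ} (h : i ≤ j) : gam G j ≤ gam G i :=
  Subgroup.lowerCentralSeries_antitone _ h

theorem gam_comm_top (i : ℕ) : ⁅gam G i, (⊤ : Subgroup G)⁆ = gam G (i + 1) := rfl

/-- `[γ_i, γ_j] ≤ γ_{i+j+1}`. -/
theorem gam_commutator (i j : ℕ) : ⁅gam G i, gam G j⁆ ≤ gam G (i + j + 1) := by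
  induction j generalizing i with
  | zero => exact le_rfl
  | succ j ih =>
    have hn : (gam G (i + (j + 1) + 1)).Normal := inferInstance
    let π := QuotientGroup.mk' (gam G (i + (j + 1) + 1))
    have hzero : ∀ S : Subgroup G, S ≤ gam G (i + (j + 1) + 1) → S.map π = ⊥ := fun S hS => by
      rw [Subgroup.map_eq_bot_iff, QuotientGroup.ker_mk']; exact hS
    have h1 : ⁅⁅(⊤ : Subgroup G).map π, (gam G i).map π⁆, (gam G j).map π⁆ = ⊥ := by
      rw [← map_commutator, ← map_commutator]
      apply hzero
      rw [commutator_comm (⊤ : Subgroup G), gam_comm_top]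
      exact (ih (i + 1)).trans (gam_antitone G (by omega))
    have h2 : ⁅⁅(gam G i).map π, (gam G j).map π⁆, (⊤ : Subgroup G).map π⁆ = ⊥ := by
      rw [← map_commutator, ← map_commutator]
      apply hzero
      refine (commutator_mono (ih i) le_rfl).trans ?_
      rw [gam_comm_top]
      exact gam_antitone G (by omega)
    have h3 := commutator_commutator_eq_bot_of_rotate h1 h2
    rw [← map_commutator, ← map_commutator, gam_comm_top, commutator_comm, Subgroup.map_eq_bot_iff,
      QuotientGroup.ker_mk'] at h3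
    exact h3

theorem comm_mem_gam {i j k : ℕ} (h : i + j + 1 = k) {x y : G} (hx : x ∈ gam G i) (hy : y ∈ gam G j) :
    ⁅x, y⁆ ∈ gam G k := h ▸ gam_commutator G i j (commutator_mem_commutator hx hy)

theorem conj_inv_mem_gam {k : ℕ} {c : G} (hc : c ∈ gam G k) (g : G) :
    c⁻¹ * (g * c * g⁻¹) ∈ gam G (k + 1) := by
  have h := commutator_mem_commutator (inv_mem hc) (mem_top g)
  rw [gam_comm_top] at h
  rw [commutatorElement_def, inv_inv] at h
  simpa [mul_assoc] using h

instance gamNormal (i : ℕ) : ((gam G (i + 1)).subgroupOf (gam G i)).Normal :=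
  (inferInstance : (gam G (i + 1)).Normal).comap _

/-- The `i`-th factor of the lower central series. -/
abbrev Factor (i : ℕ) : Type u := ↥(gam G i) ⧸ (gam G (i + 1)).subgroupOf (gam G i)

instance factorCommGroup (i : ℕ) : CommGroup (Factor G i) :=
  { (inferInstance : Group (Factor G i)) with
    mul_comm := fun a b => by
      induction a using QuotientGroup.induction_on with
      | _ x =>
      induction b using QuotientGroup.induction_on with
      | _ y =>
      rw [← QuotientGroup.mk_mul, ← QuotientGroup.mk_mul, QuotientGroup.eq, mem_subgroupOf]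
      have h := comm_mem_gam G rfl (inv_mem y.2) (inv_mem x.2)
      rw [commutatorElement_def, inv_inv, inv_inv] at h
      refine gam_antitone G (show i + 1 ≤ i + i + 1 by omega) ?_
      simpa [mul_assoc] using h }

/-- The factors, additively. -/
abbrev Layer (i : ℕ) : Type u := Additive (Factor G i)

/-- The class of an element. -/
def cls {i : ℕ} (x : G) (hx : x ∈ gam G i) : Layer G i :=
  Additive.ofMul (QuotientGroup.mk' _ (⟨x, hx⟩ : gam G i))

variable {G}

theorem exists_cls {i : ℕ} (q : Layer G i) : ∃ (x : G) (hx : x ∈ gam G i), cls G x hx = q := by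
  obtain ⟨x, hx⟩ := QuotientGroup.mk'_surjective _ q.toMul
  exact ⟨x, x.2, congrArg Additive.ofMul hx⟩

theorem cls_eq_iff {i : ℕ} {x y : G} (hx : x ∈ gam G i) (hy : y ∈ gam G i) :
    cls G x hx = cls G y hy ↔ x⁻¹ * y ∈ gam G (i + 1) := by
  rw [cls, cls, Additive.ofMul.injective.eq_iff, QuotientGroup.mk'_apply, QuotientGroup.mk'_apply,
    QuotientGroup.eq, mem_subgroupOf]
  rfl

theorem cls_eq_zero_iff {i : ℕ} {x : G} (hx : x ∈ gam G i) :
    cls G x hx = 0 ↔ x ∈ gam G (i + 1) := by
  rw [cls, ofMul_eq_zero, QuotientGroup.mk'_apply, QuotientGroup.eq_one_iff, mem_subgroupOf]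

theorem cls_mul {i : ℕ} {x y : G} (hx : x ∈ gam G i) (hy : y ∈ gam G i) :
    cls G (x * y) (mul_mem hx hy) = cls G x hx + cls G y hy := rfl

theorem cls_inv {i : ℕ} {x : G} (hx : x ∈ gam G i) :
    cls G x⁻¹ (inv_mem hx) = - cls G x hx := rfl

theorem cls_congr {i : ℕ} {x y : G} (h : x = y) (hx : x ∈ gam G i) (hy : y ∈ gam G i) :
    cls G x hx = cls G y hy := by subst h; rfl

section Bracket

variable {i j k : ℕ} (h : i + j + 1 = k)
include h

theorem comm_cls_add_left {x x' y : G} (hx : x ∈ gam G i) (hx' : x' ∈ gam G i) (hy : y ∈ gam G j) :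
    cls G ⁅x * x', y⁆ (comm_mem_gam G h (mul_mem hx hx') hy) =
      cls G ⁅x, y⁆ (comm_mem_gam G h hx hy) + cls G ⁅x', y⁆ (comm_mem_gam G h hx' hy) := by
  have h2 := comm_mem_gam G h hx' hy
  have h3 : x * ⁅x', y⁆ * x⁻¹ ∈ gam G k := Normal.conj_mem inferInstance _ h2 x
  have h4 : cls G (x * ⁅x', y⁆ * x⁻¹) h3 = cls G ⁅x', y⁆ h2 :=
    ((cls_eq_iff h2 h3).2 (conj_inv_mem_gam G h2 x)).symm
  rw [← h4, add_comm, ← cls_mul]
  exact cls_congr (commutatorElement_mul_left_eq_conj_mul x x' y) _ _

theorem comm_cls_add_right {x y y' : G} (hx : x ∈ gam G i) (hy : y ∈ gam G j) (hy' : y' ∈ gam G j) :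
    cls G ⁅x, y * y'⁆ (comm_mem_gam G h hx (mul_mem hy hy')) =
      cls G ⁅x, y⁆ (comm_mem_gam G h hx hy) + cls G ⁅x, y'⁆ (comm_mem_gam G h hx hy') := by
  have h2 := comm_mem_gam G h hx hy'
  have h3 : y * ⁅x, y'⁆ * y⁻¹ ∈ gam G k := Normal.conj_mem inferInstance _ h2 y
  have h4 : cls G (y * ⁅x, y'⁆ * y⁻¹) h3 = cls G ⁅x, y'⁆ h2 :=
    ((cls_eq_iff h2 h3).2 (conj_inv_mem_gam G h2 y)).symm
  rw [← h4, ← cls_mul]
  exact cls_congr (by rw [commutatorElement_mul_right_eq_mul_conj]; group) _ _

/-- The commutator on the second argument. -/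
def commSnd (x : gam G i) : Layer G j →+ Layer G k :=
  MonoidHom.toAdditive <| QuotientGroup.lift _
    (MonoidHom.mk' (fun y : gam G j => (cls G ⁅(x : G), y⁆ (comm_mem_gam G h x.2 y.2)).toMul)
      fun y y' => congrArg Additive.toMul (comm_cls_add_right h x.2 y.2 y'.2))
    fun y hy => congrArg Additive.toMul
      ((cls_eq_zero_iff (comm_mem_gam G h x.2 y.2)).2 (comm_mem_gam G (i := i) (j := j + 1) (k := k + 1) (by omega) x.2 hy))

theorem commSnd_cls (x : gam G i) {y : G} (hy : y ∈ gam G j) :
    commSnd h x (cls G y hy) = cls G ⁅(x : G), y⁆ (comm_mem_gam G h x.2 hy) := rfl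

/-- The bracket between two layers. -/
def commLayer : Layer G i →+ Layer G j →+ Layer G k :=
  MonoidHom.toAdditiveLeft <| QuotientGroup.lift _
    (MonoidHom.mk' (fun x : gam G i => Multiplicative.ofAdd (commSnd h x)) fun x x' =>
      congrArg Multiplicative.ofAdd (AddMonoidHom.ext fun q => by
        obtain ⟨y, hy, rfl⟩ := exists_cls q
        exact comm_cls_add_left h x.2 x'.2 hy))
    fun x hx => congrArg Multiplicative.ofAdd (AddMonoidHom.ext fun q => by
      obtain ⟨y, hy, rfl⟩ := exists_cls q
      exact (cls_eq_zero_iff (comm_mem_gam G h x.2 hy)).2 (comm_mem_gam G (i := i + 1) (j := j) (k := k + 1) (by omega) hx hy))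

theorem commLayer_cls {x y : G} (hx : x ∈ gam G i) (hy : y ∈ gam G j) :
    commLayer h (cls G x hx) (cls G y hy) = cls G ⁅x, y⁆ (comm_mem_gam G h hx hy) := rfl

end Bracket

variable (G)

/-- The truncated associated Lie ring. -/
abbrev Ring (m : ℕ) : Type u := (i : Fin m) → Layer G i

variable {G} {m : ℕ}

/-- The element given by `x ∈ γ_k`. -/
def gen (m k : ℕ) (x : G) (hx : x ∈ gam G k) : Ring G m :=
  if h : k < m then Pi.single (M := fun i : Fin m => Layer G i) ⟨k, h⟩ (cls G x hx) else 0

theorem gen_of_lt {k : ℕ} (h : k < m) {x : G} (hx : x ∈ gam G k) :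
    gen m k x hx = Pi.single (M := fun i : Fin m => Layer G i) ⟨k, h⟩ (cls G x hx) := dif_pos h

theorem gen_of_ge {k : ℕ} (h : ¬ k < m) {x : G} (hx : x ∈ gam G k) : gen m k x hx = 0 := dif_neg h

theorem gen_congr {k k' : ℕ} (e : k = k') {x y : G} (hxy : x = y) (hx : x ∈ gam G k)
    (hy : y ∈ gam G k') : gen m k x hx = gen m k' y hy := by
  subst e; subst hxy; rfl

theorem gen_mul {k : ℕ} {x y : G} (hx : x ∈ gam G k) (hy : y ∈ gam G k) :
    gen m k (x * y) (mul_mem hx hy) = gen m k x hx + gen m k y hy := by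
  by_cases h : k < m
  · rw [gen_of_lt h, gen_of_lt h, gen_of_lt h, cls_mul, Pi.single_add]
  · rw [gen_of_ge h, gen_of_ge h, gen_of_ge h, add_zero]

theorem gen_inv {k : ℕ} {x : G} (hx : x ∈ gam G k) :
    gen m k x⁻¹ (inv_mem hx) = - gen m k x hx := by
  by_cases h : k < m
  · rw [gen_of_lt h, gen_of_lt h, cls_inv, Pi.single_neg]
  · rw [gen_of_ge h, gen_of_ge h, neg_zero]

theorem gen_zero {k : ℕ} {x : G} (hx : x ∈ gam G (k + 1)) :
    gen m k x (gam_antitone G (Nat.le_succ k) hx) = 0 := by
  by_cases h : k < m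
  · rw [gen_of_lt h, (cls_eq_zero_iff _).2 hx, Pi.single_zero]
  · exact gen_of_ge h _

/-- Conjugating the second entry does not change the class of a commutator. -/
theorem gen_comm_conj {a b k : ℕ} (h : a + b + 1 = k) {x y : G} (hx : x ∈ gam G a) (hy : y ∈ gam G b)
    (g : G) : gen m k ⁅x, y⁆ (comm_mem_gam G h hx hy) =
      gen m k ⁅x, g * y * g⁻¹⁆ (comm_mem_gam G h hx (Normal.conj_mem inferInstance _ hy g)) := by
  have hd := conj_inv_mem_gam G hy g
  have hd' : y⁻¹ * (g * y * g⁻¹) ∈ gam G b := gam_antitone G (Nat.le_succ b) hd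
  by_cases hk : k < m
  · rw [gen_of_lt hk, gen_of_lt hk]
    congr 1
    have h1 := comm_cls_add_right h hx hy hd'
    rw [(cls_eq_zero_iff (comm_mem_gam G h hx hd')).2 (comm_mem_gam G (i := a) (j := b + 1) (k := k + 1) (by omega) hx hd), add_zero] at h1
    rw [← h1]
    exact cls_congr (by rw [mul_inv_cancel_left]) _ _
  · rw [gen_of_ge hk, gen_of_ge hk]

/-- Induction along the generators. -/
theorem ring_induction {P : Ring G m → Prop} (h0 : P 0)
    (hadd : ∀ f g, P f → P g → P (f + g))
    (hgen : ∀ k x (hx : x ∈ gam G k), P (gen m k x hx)) (f : Ring G m) : P f := by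
  rw [← Finset.univ_sum_single f]
  refine Finset.sum_induction _ P hadd h0 fun i _ => ?_
  obtain ⟨x, hx, he⟩ := exists_cls (f i)
  rw [← he, ← gen_of_lt i.2 hx]
  exact hgen _ x hx

/-- The bracket of layer `i` and layer `j` inside the ring. -/
def pairTerm (i j : Fin m) : Layer G i →+ Layer G j →+ Ring G m :=
  if h : (i : ℕ) + j + 1 < m then
    (AddMonoidHom.compHom (AddMonoidHom.single (fun l : Fin m => Layer G l) ⟨_, h⟩)).comp
      (commLayer (i := (i : ℕ)) (j := (j : ℕ)) (k := (i : ℕ) + j + 1) rfl)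
  else 0

theorem pairTerm_cls {i j : Fin m} {x y : G} (hx : x ∈ gam G (i : ℕ)) (hy : y ∈ gam G (j : ℕ)) :
    pairTerm i j (cls G x hx) (cls G y hy) =
      gen m ((i : ℕ) + j + 1) ⁅x, y⁆ (comm_mem_gam G rfl hx hy) := by
  unfold pairTerm
  by_cases h : (i : ℕ) + j + 1 < m
  · rw [dif_pos h, gen_of_lt h]
    rfl
  · rw [dif_neg h, gen_of_ge h]
    rfl

variable (G m)

/-- The bracket. -/
def bracket : Ring G m →+ Ring G m →+ Ring G m :=
  AddMonoidHom.mk' (fun f => AddMonoidHom.mk' (fun g => ∑ i, ∑ j, pairTerm i j (f i) (g j))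
      fun g g' => by simp [Finset.sum_add_distrib])
    fun f f' => AddMonoidHom.ext fun g => by simp [Finset.sum_add_distrib]

variable {G m}

theorem bracket_apply (f g : Ring G m) :
    bracket G m f g = ∑ i, ∑ j, pairTerm i j (f i) (g j) := rfl

theorem bracket_gen {a b : ℕ} {x y : G} (hx : x ∈ gam G a) (hy : y ∈ gam G b) :
    bracket G m (gen m a x hx) (gen m b y hy) = gen m (a + b + 1) ⁅x, y⁆ (comm_mem_gam G rfl hx hy) := by
  by_cases ha : a < m
  · by_cases hb : b < m
    · rw [bracket_apply, Finset.sum_eq_single (⟨a, ha⟩ : Fin m), Finset.sum_eq_single (⟨b, hb⟩ : Fin m),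
        gen_of_lt ha, gen_of_lt hb, Pi.single_eq_same, Pi.single_eq_same]
      · exact pairTerm_cls hx hy
      · intro j _ hj
        rw [gen_of_lt hb, Pi.single_eq_of_ne hj, map_zero]
      · simp
      · intro i _ hi
        refine Finset.sum_eq_zero fun j _ => ?_
        rw [gen_of_lt ha, Pi.single_eq_of_ne hi, map_zero, AddMonoidHom.zero_apply]
      · simp
    · rw [gen_of_ge hb, map_zero, gen_of_ge (by omega)]
  · rw [gen_of_ge ha, map_zero, AddMonoidHom.zero_apply, gen_of_ge (by omega)]

theorem bracket_skew (f g : Ring G m) : bracket G m f g = - bracket G m g f := by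
  induction f using ring_induction with
  | h0 => simp
  | hadd f f' h h' => rw [map_add, AddMonoidHom.add_apply, h, h', map_add, neg_add]
  | hgen a x hx =>
    induction g using ring_induction with
    | h0 => simp
    | hadd g g' h h' => rw [map_add, h, h', map_add, AddMonoidHom.add_apply, neg_add]
    | hgen b y hy =>
      rw [bracket_gen hx hy, bracket_gen hy hx, ← gen_inv]
      exact gen_congr (by omega) (commutatorElement_inv y x).symm _ _

theorem bracket_jacobi_cyclic (f g e : Ring G m) :
    bracket G m (bracket G m f g) e + bracket G m (bracket G m g e) f +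
      bracket G m (bracket G m e f) g = 0 := by
  induction f using ring_induction with
  | h0 => simp
  | hadd f f' h h' =>
    simp only [map_add, AddMonoidHom.add_apply]
    linear_combination (norm := abel) h + h'
  | hgen a x hx =>
    induction g using ring_induction with
    | h0 => simp
    | hadd g g' h h' =>
      simp only [map_add, AddMonoidHom.add_apply]
      linear_combination (norm := abel) h + h'
    | hgen b y hy =>
      induction e using ring_induction with
      | h0 => simp
      | hadd e e' h h' =>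
        simp only [map_add, AddMonoidHom.add_apply]
        linear_combination (norm := abel) h + h'
      | hgen c z hz =>
        rw [bracket_gen hx hy, bracket_gen hy hz, bracket_gen hz hx, bracket_gen, bracket_gen, bracket_gen]
        -- move every term to degree `a + b + c + 2` and conjugate the outer entries
        have e1 : gen m (a + b + 1 + c + 1) ⁅⁅x, y⁆, z⁆ (comm_mem_gam G rfl (comm_mem_gam G rfl hx hy) hz) =
            gen m (a + b + c + 2) ⁅⁅x, y⁆, y * z * y⁻¹⁆
              (comm_mem_gam G (by omega) (comm_mem_gam G rfl hx hy) (Normal.conj_mem inferInstance _ hz y)) :=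
          (gen_congr (by omega) rfl _ (comm_mem_gam G (by omega) (comm_mem_gam G rfl hx hy) hz)).trans
            (gen_comm_conj (by omega) (comm_mem_gam G rfl hx hy) hz y)
        have e2 : gen m (b + c + 1 + a + 1) ⁅⁅y, z⁆, x⁆ (comm_mem_gam G rfl (comm_mem_gam G rfl hy hz) hx) =
            gen m (a + b + c + 2) ⁅⁅y, z⁆, z * x * z⁻¹⁆
              (comm_mem_gam G (by omega) (comm_mem_gam G rfl hy hz) (Normal.conj_mem inferInstance _ hx z)) :=
          (gen_congr (by omega) rfl _ (comm_mem_gam G (by omega) (comm_mem_gam G rfl hy hz) hx)).trans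
            (gen_comm_conj (by omega) (comm_mem_gam G rfl hy hz) hx z)
        have e3 : gen m (c + a + 1 + b + 1) ⁅⁅z, x⁆, y⁆ (comm_mem_gam G rfl (comm_mem_gam G rfl hz hx) hy) =
            gen m (a + b + c + 2) ⁅⁅z, x⁆, x * y * x⁻¹⁆
              (comm_mem_gam G (by omega) (comm_mem_gam G rfl hz hx) (Normal.conj_mem inferInstance _ hy x)) :=
          (gen_congr (by omega) rfl _ (comm_mem_gam G (by omega) (comm_mem_gam G rfl hz hx) hy)).trans
            (gen_comm_conj (by omega) (comm_mem_gam G rfl hz hx) hy x)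
        rw [e1, e2, e3, ← gen_mul, ← gen_mul]
        exact (gen_congr rfl (commutatorElement_commutatorElement_conj_mul x y z) _ (one_mem _)).trans
          (gen_zero (one_mem _))

theorem bracket_jacobi (f g e : Ring G m) :
    bracket G m (bracket G m f g) e =
      bracket G m (bracket G m f e) g + bracket G m f (bracket G m g e) := by
  have h := bracket_jacobi_cyclic f g e
  have h1 : bracket G m (bracket G m e f) g = - bracket G m (bracket G m f e) g := by
    rw [bracket_skew e f, map_neg, AddMonoidHom.neg_apply]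
  have h2 : bracket G m (bracket G m g e) f = - bracket G m f (bracket G m g e) := bracket_skew _ _
  rw [h1, h2] at h
  linear_combination (norm := abel) h

end Cfsg.Agent.LieGraded
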