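import Mathlib.Algebra.BigOperators.Pi
import Mathlib.Data.ZMod.Basic
import Mathlib.GroupTheory.Perm.Cycle.Type
import Cfsg.Agent.Lib.LieGraded.Assoc

/-!
# Fixed-point-free automorphisms of prime order and the associated Lie ring

`gam_eq_bot_of_fpf`: let `G` be a finite nilpotent group of order prime to `p` with an automorphism
`α`, `α ^ p = 1`, fixing only `1`. If every `ZMod p`-graded Lie ring with trivial zero component
has `(N+1)`-fold products zero, then `γ_N(G) = 1` (series indexed from `0`).
-/

set_option autoImplicit false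

namespace Cfsg.Agent.LieGraded

open Subgroup
open scoped commutatorElement

universe u

section Conv

variable {L : Type u} [AddCommGroup L] {p : ℕ} [NeZero p]

/-- Convolution of a biadditive map. -/
def conv (B : L →+ L →+ L) : (ZMod p → L) →+ (ZMod p → L) →+ (ZMod p → L) :=
  AddMonoidHom.mk' (fun f => AddMonoidHom.mk' (fun g => fun j => ∑ i, B (f i) (g (j - i)))
      fun g g' => by funext j; simp [Finset.sum_add_distrib])
    fun f f' => AddMonoidHom.ext fun g => by funext j; simp [Finset.sum_add_distrib]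

theorem conv_apply (B : L →+ L →+ L) (f g : ZMod p → L) (j : ZMod p) :
    conv B f g j = ∑ i, B (f i) (g (j - i)) := rfl

theorem conv_single (B : L →+ L →+ L) (a b : ZMod p) (x y : L) :
    conv B (Pi.single a x) (Pi.single b y) = Pi.single (a + b) (B x y) := by
  funext j
  rw [conv_apply, Finset.sum_eq_single a]
  · by_cases h : j = a + b
    · subst h; simp
    · have : j - a ≠ b := fun e => h (by rw [← e]; ring)
      simp [h, this]
  · intro i _ hi; simp [hi]
  · simp

theorem conv_induction {P : (ZMod p → L) → Prop} (h0 : P 0) (hadd : ∀ f g, P f → P g → P (f + g))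
    (hs : ∀ a x, P (Pi.single a x)) (f : ZMod p → L) : P f := by
  rw [← Finset.univ_sum_single f]
  exact Finset.sum_induction _ P hadd h0 fun i _ => hs i _

theorem conv_skew {B : L →+ L →+ L} (hB : ∀ x y, B x y = - B y x) (f g : ZMod p → L) :
    conv B f g = - conv B g f := by
  induction f using conv_induction with
  | h0 => simp
  | hadd f f' h h' => rw [map_add, AddMonoidHom.add_apply, h, h', map_add, neg_add]
  | hs a x =>
    induction g using conv_induction with
    | h0 => simp
    | hadd g g' h h' => rw [map_add, h, h', map_add, AddMonoidHom.add_apply, neg_add]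
    | hs b y => rw [conv_single, conv_single, add_comm b a, ← Pi.single_neg, ← hB]

theorem conv_jacobi {B : L →+ L →+ L} (hJ : ∀ x y z, B (B x y) z = B (B x z) y + B x (B y z))
    (f g e : ZMod p → L) :
    conv B (conv B f g) e = conv B (conv B f e) g + conv B f (conv B g e) := by
  induction f using conv_induction with
  | h0 => simp
  | hadd f f' h h' =>
    simp only [map_add, AddMonoidHom.add_apply]
    linear_combination (norm := abel) h + h'
  | hs a x =>
    induction g using conv_induction with
    | h0 => simp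
    | hadd g g' h h' =>
      simp only [map_add, AddMonoidHom.add_apply]
      linear_combination (norm := abel) h + h'
    | hs b y =>
      induction e using conv_induction with
      | h0 => simp
      | hadd e e' h h' =>
        simp only [map_add, AddMonoidHom.add_apply]
        linear_combination (norm := abel) h + h'
      | hs c z =>
        simp only [conv_single]
        rw [add_right_comm a c b, ← add_assoc, hJ, Pi.single_add]

/-- The functions on `ZMod p` which `φ` shifts by `a`. -/
def shiftSpace (φ : L →+ L) (a : ZMod p) : AddSubgroup (ZMod p → L) where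
  carrier := {f | ∀ j, φ (f j) = f (j - a)}
  zero_mem' := fun j => by simp
  add_mem' := fun {f g} hf hg j => by simp [hf j, hg j]
  neg_mem' := fun {f} hf j => by simp [hf j]

theorem isGrading_shift {B : L →+ L →+ L} (hB : ∀ x y, B x y = - B y x)
    (hJ : ∀ x y z, B (B x y) z = B (B x z) y + B x (B y z)) (φ : L →+ L)
    (hφ : ∀ x y, φ (B x y) = B (φ x) (φ y)) (hfix : ∀ x, φ x = x → x = 0) :
    IsGrading (conv (p := p) B) (shiftSpace φ) where
  skew := conv_skew hB
  jacobi := conv_jacobi hJ
  mul_mem := brFam_le fun a b f hf g hg j => by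
    show φ (conv B f g j) = conv B f g (j - (a + b))
    rw [conv_apply, conv_apply, map_sum, ← Equiv.sum_comp (Equiv.subRight a) (fun i => B (f i) (g (j - (a + b) - i)))]
    refine Finset.sum_congr rfl fun i _ => ?_
    rw [hφ, hf i, hg (j - i), Equiv.subRight_apply]
    congr 2
    ring
  zero := (AddSubgroup.eq_bot_iff_forall _).2 fun f hf => funext fun j => hfix _ (by
    have := hf j
    rwa [sub_zero] at this)

/-- The constant functions. -/
def constants (p : ℕ) (L : Type u) [AddCommGroup L] : AddSubgroup (ZMod p → L) :=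
  (Pi.constAddMonoidHom (ZMod p) L).range

theorem conv_constants_left (B : L →+ L →+ L) {f : ZMod p → L} (hf : f ∈ constants p L)
    (g : ZMod p → L) : conv B f g ∈ constants p L := by
  obtain ⟨c, rfl⟩ := hf
  refine ⟨∑ i, B c (g i), funext fun j => ?_⟩
  rw [conv_apply]
  exact (Equiv.sum_comp (Equiv.subLeft j) (fun i => B c (g i))).symm

theorem conv_constants_right (B : L →+ L →+ L) (f : ZMod p → L) {g : ZMod p → L}
    (hg : g ∈ constants p L) : conv B f g ∈ constants p L := by
  obtain ⟨c, rfl⟩ := hg
  exact ⟨∑ i, B (f i) c, funext fun j => rfl⟩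

end Conv

section Span

variable {L : Type u} [AddCommGroup L] {p : ℕ} [Fact p.Prime]

theorem iterate_val_add {φ : L → L} (hp : φ^[p] = id) (a b : ZMod p) (x : L) :
    φ^[a.val] (φ^[b.val] x) = φ^[(a + b).val] x := by
  rw [← Function.iterate_add_apply, ZMod.val_add]
  conv_lhs => rw [← Nat.mod_add_div (a.val + b.val) p, Function.iterate_add_apply,
    Function.iterate_mul, hp, Function.iterate_id, id_eq]

/-- Modulo constants `p` times a delta function is a sum of eigenfunctions. -/
theorem single_nsmul_mem {φ : L →+ L} (hp : (⇑φ)^[p] = id) (hfix : ∀ x, φ x = x → x = 0) (x : L) :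
    Pi.single (0 : ZMod p) (p • x) ∈ (⨆ a : ZMod p, shiftSpace φ a) ⊔ constants p L := by
  classical
  have hone : (1 : ZMod p).val = 1 := by
    have : Fact (1 < p) := ⟨(Fact.out : p.Prime).one_lt⟩
    exact ZMod.val_one p
  let f : ZMod p → ZMod p → L := fun a j => (⇑φ)^[(-j * a⁻¹).val] x
  have hf : ∀ a, a ≠ 0 → f a ∈ shiftSpace φ a := by
    intro a ha j
    show φ ((⇑φ)^[(-j * a⁻¹).val] x) = (⇑φ)^[(-(j - a) * a⁻¹).val] x
    rw [show -(j - a) * a⁻¹ = 1 + -j * a⁻¹ by rw [neg_sub, sub_mul, mul_inv_cancel₀ ha]; ring,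
      ← iterate_val_add hp, hone, Function.iterate_one]
  have hnorm : ∑ i : ZMod p, (⇑φ)^[i.val] x = 0 := by
    apply hfix
    rw [map_sum, ← Equiv.sum_comp (Equiv.addLeft (1 : ZMod p)) (fun i => (⇑φ)^[i.val] x)]
    refine Finset.sum_congr rfl fun i _ => ?_
    rw [Equiv.coe_addLeft, ← iterate_val_add hp, hone, Function.iterate_one]
  have hkey : Pi.single (0 : ZMod p) (p • x) =
      (∑ a ∈ Finset.univ.erase (0 : ZMod p), f a) + Pi.constAddMonoidHom (ZMod p) L x := by
    funext j
    rw [Pi.add_apply, Finset.sum_apply]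
    show _ = _ + x
    by_cases hj : j = 0
    · subst hj
      have : ∀ a ∈ Finset.univ.erase (0 : ZMod p), f a 0 = x := fun a _ => by simp [f]
      rw [Finset.sum_congr rfl this, Finset.sum_const, Finset.card_erase_of_mem (Finset.mem_univ _),
        Finset.card_univ, ZMod.card, ← succ_nsmul, Nat.sub_add_cancel (Fact.out : p.Prime).pos,
        Pi.single_eq_same]
    · have h1 : ∑ a ∈ Finset.univ.erase (0 : ZMod p), f a j =
          ∑ i ∈ Finset.univ.erase (0 : ZMod p), (⇑φ)^[i.val] x := by
        refine Finset.sum_nbij' (fun a => -j * a⁻¹) (fun i => -j * i⁻¹) ?_ ?_ ?_ ?_ ?_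
        · intro a ha; simp at ha ⊢; exact ⟨hj, ha⟩
        · intro a ha; simp at ha ⊢; exact ⟨hj, ha⟩
        · intro a ha
          simp only [mul_inv, inv_inv]
          rw [← mul_assoc, mul_inv_cancel₀ (neg_ne_zero.2 hj), one_mul]
        · intro a ha
          simp only [mul_inv, inv_inv]
          rw [← mul_assoc, mul_inv_cancel₀ (neg_ne_zero.2 hj), one_mul]
        · intro a _; rfl
      have h2 := Finset.add_sum_erase _ (fun i : ZMod p => (⇑φ)^[i.val] x) (Finset.mem_univ (0 : ZMod p))
      simp only [ZMod.val_zero, Function.iterate_zero, id_eq] at h2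
      rw [h1, Pi.single_eq_of_ne hj, add_comm, h2, hnorm]
  rw [hkey]
  exact add_mem (AddSubgroup.mem_sup_left (sum_mem fun a ha =>
    AddSubgroup.mem_iSup_of_mem a (hf a (Finset.ne_of_mem_erase ha))))
    (AddSubgroup.mem_sup_right ⟨x, rfl⟩)

theorem conv_mem_step (B : L →+ L →+ L) (D : ZMod p → AddSubgroup (ZMod p → L)) (k : ℕ)
    {f g : ZMod p → L} (hf : f ∈ (⨆ c, lowerSeries (conv B) D k c) ⊔ constants p L)
    (hg : g ∈ (⨆ c, D c) ⊔ constants p L) :
    conv B f g ∈ (⨆ c, lowerSeries (conv B) D (k + 1) c) ⊔ constants p L := by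
  obtain ⟨f1, hf1, f2, hf2, rfl⟩ := AddSubgroup.mem_sup.1 hf
  obtain ⟨g1, hg1, g2, hg2, rfl⟩ := AddSubgroup.mem_sup.1 hg
  rw [map_add (conv B) f1 f2, AddMonoidHom.add_apply, map_add (conv B f1) g1 g2]
  refine add_mem (add_mem (AddSubgroup.mem_sup_left ?_)
    (AddSubgroup.mem_sup_right (conv_constants_right B f1 hg2)))
    (AddSubgroup.mem_sup_right (conv_constants_left B hf2 _))
  refine AddSubgroup.iSup_induction _ (C := fun f1 =>
    conv B f1 g1 ∈ ⨆ c, lowerSeries (conv B) D (k + 1) c) hf1 (fun a x hx => ?_)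
    (by simp) (fun x y hx hy => by rw [map_add, AddMonoidHom.add_apply]; exact add_mem hx hy)
  refine AddSubgroup.iSup_induction _ (C := fun g1 =>
    conv B x g1 ∈ ⨆ c, lowerSeries (conv B) D (k + 1) c) hg1 (fun b y hy => ?_)
    (by simp) (fun y z hy hz => by rw [map_add]; exact add_mem hy hz)
  exact AddSubgroup.mem_iSup_of_mem (a + b) (mem_brFam hx hy)

end Span

variable {G : Type u} [Group G]

theorem gam_map_mem (α : MulAut G) {i : ℕ} {x : G} (hx : x ∈ gam G i) : α x ∈ gam G i :=
  (characteristic_iff_map_le.1 inferInstance α) ⟨x, hx, rfl⟩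

/-- The action of an automorphism on a layer. -/
def layerMap (α : MulAut G) (i : ℕ) : Layer G i →+ Layer G i :=
  MonoidHom.toAdditive <| QuotientGroup.lift _
    (MonoidHom.mk' (fun x : gam G i => (cls G (α x) (gam_map_mem α x.2)).toMul) fun x y =>
      congrArg Additive.toMul ((cls_congr (map_mul α (x : G) y) _ _).trans
        (cls_mul (gam_map_mem α x.2) (gam_map_mem α y.2))))
    fun x hx => congrArg Additive.toMul ((cls_eq_zero_iff _).2 (gam_map_mem α hx))

theorem layerMap_cls (α : MulAut G) {i : ℕ} {x : G} (hx : x ∈ gam G i) :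
    layerMap α i (cls G x hx) = cls G (α x) (gam_map_mem α hx) := rfl

/-- The action of an automorphism on the Lie ring. -/
def ringMap (α : MulAut G) (m : ℕ) : Ring G m →+ Ring G m :=
  AddMonoidHom.mk' (fun f i => layerMap α i (f i)) fun f g => funext fun i => map_add _ _ _

theorem ringMap_gen (α : MulAut G) {m k : ℕ} {x : G} (hx : x ∈ gam G k) :
    ringMap α m (gen m k x hx) = gen m k (α x) (gam_map_mem α hx) := by
  by_cases h : k < m
  · rw [gen_of_lt h, gen_of_lt h]
    funext i
    show layerMap α i _ = _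
    rcases eq_or_ne i ⟨k, h⟩ with rfl | hi
    · rw [Pi.single_eq_same, Pi.single_eq_same, layerMap_cls]
    · rw [Pi.single_eq_of_ne hi, Pi.single_eq_of_ne hi, map_zero]
  · rw [gen_of_ge h, gen_of_ge h, map_zero]

theorem ringMap_bracket (α : MulAut G) {m : ℕ} (f g : Ring G m) :
    ringMap α m (bracket G m f g) = bracket G m (ringMap α m f) (ringMap α m g) := by
  induction f using ring_induction with
  | h0 => simp
  | hadd f f' h h' => simp [map_add, h, h']
  | hgen a x hx =>
    induction g using ring_induction with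
    | h0 => simp
    | hadd g g' h h' => simp [map_add, h, h']
    | hgen b y hy =>
      rw [bracket_gen hx hy, ringMap_gen, ringMap_gen, ringMap_gen, bracket_gen]
      exact gen_congr rfl (map_commutatorElement α x y) _ _

/-- **The class of a nilpotent group with a fixed-point-free automorphism of prime order.** -/
theorem gam_eq_bot_of_fpf [Finite G] [Group.IsNilpotent G] {p : ℕ} [Fact p.Prime] (α : MulAut G)
    (hα : α ^ p = 1) (hfpf : ∀ g, α g = g → g = 1) (hcop : (Nat.card G).Coprime p) (N : ℕ)
    (hbound : ∀ {A : Type u} [AddCommGroup A] (B : A →+ A →+ A) (D : ZMod p → AddSubgroup A),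
      IsGrading B D → lowerSeries B D N = ⊥) : gam G N = ⊥ := by
  classical
  set m := N + 1 with hm
  let φ := ringMap α m
  -- `α` is fixed-point-free on every layer
  have hlayer : ∀ (i : ℕ) (q : Layer G i), layerMap α i q = q → q = 0 := by
    intro i q hq
    obtain ⟨x, hx, rfl⟩ := exists_cls q
    rw [layerMap_cls, cls_eq_iff] at hq
    rw [cls_eq_zero_iff]
    let ψ : gam G (i + 1) → gam G (i + 1) := fun n => ⟨(n : G) * (α n)⁻¹,
      mul_mem n.2 (inv_mem (gam_map_mem α n.2))⟩
    have hinj : Function.Injective ψ := fun a b h => by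
      have h' : (a : G) * (α a)⁻¹ = b * (α b)⁻¹ := congrArg Subtype.val h
      refine Subtype.ext ?_
      have h3 : α ((b : G)⁻¹ * a) = (b : G)⁻¹ * a := by
        rw [map_mul, map_inv]
        calc (α b)⁻¹ * α a = (b : G)⁻¹ * ((b : G) * (α b)⁻¹) * α a := by group
          _ = (b : G)⁻¹ * ((a : G) * (α a)⁻¹) * α a := by rw [h']
          _ = _ := by group
      exact (inv_mul_eq_one.1 (hfpf _ h3)).symm
    obtain ⟨n, hn⟩ := (Finite.injective_iff_surjective.1 hinj)
      ⟨((α x)⁻¹ * x)⁻¹, inv_mem hq⟩
    have hn' : (n : G) * (α n)⁻¹ = ((α x)⁻¹ * x)⁻¹ := congrArg Subtype.val hn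
    have h2 : α (x * n) = x * n := by
      rw [map_mul]
      calc α x * α n = α x * ((n : G) * (α n)⁻¹)⁻¹ * n := by group
        _ = _ := by rw [hn']; group
    have h3 := hfpf _ h2
    rw [mul_eq_one_iff_eq_inv] at h3
    rw [h3]
    exact inv_mem n.2
  have hfix : ∀ f, φ f = f → f = 0 := fun f hf => funext fun i => hlayer i (f i) (congrFun hf i)
  have hφp : (⇑φ)^[p] = id := by
    have hiter : ∀ n k x (hx : x ∈ gam G k), (⇑φ)^[n] (gen m k x hx) =
        gen m k ((α ^ n) x) (gam_map_mem _ hx) := by
      intro n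
      induction n with
      | zero => intro k x hx; exact gen_congr rfl (by simp) _ _
      | succ n ih =>
        intro k x hx
        rw [Function.iterate_succ_apply', ih, ringMap_gen]
        exact gen_congr rfl (by rw [pow_succ']; rfl) _ _
    funext f
    induction f using ring_induction with
    | h0 => simp [Function.iterate_fixed (map_zero φ)]
    | hadd f g hf hg => rw [iterate_map_add φ, hf, hg]; rfl
    | hgen k x hx => rw [hiter]; exact gen_congr rfl (by simp [hα]) _ _
  have hD : IsGrading (conv (p := p) (bracket G m)) (shiftSpace φ) :=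
    isGrading_shift bracket_skew bracket_jacobi φ (ringMap_bracket α) hfix
  -- the key invariant
  let Q : ℕ → AddSubgroup (ZMod p → Ring G m) := fun k =>
    (⨆ c, lowerSeries (conv (bracket G m)) (shiftSpace φ) k c) ⊔ constants p (Ring G m)
  let T : ℕ → AddSubgroup (Ring G m) := fun k =>
    (Q k).comap ((AddMonoidHom.single (fun _ : ZMod p => Ring G m) 0).comp (nsmulAddMonoidHom (p ^ (k + 1))))
  have hT : ∀ k w, w ∈ T k ↔ Pi.single (0 : ZMod p) (p ^ (k + 1) • w) ∈ Q k := fun k w => Iff.rfl
  have hbase : ∀ w, Pi.single (0 : ZMod p) (p • w) ∈ Q 0 := fun w => single_nsmul_mem hφp hfix w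
  have hgen : ∀ k x (hx : x ∈ gam G k), gen m k x hx ∈ T k := by
    intro k
    induction k with
    | zero => intro x hx; rw [hT, zero_add, pow_one]; exact hbase _
    | succ k ih =>
      intro x hx
      induction hx using Subgroup.closure_induction with
      | mem z hz =>
        obtain ⟨a, ha, b, -, rfl⟩ := hz
        have hb : b ∈ gam G 0 := mem_top b
        have h1 := conv_mem_step (bracket G m) (shiftSpace φ) k ((hT k _).1 (ih a ha))
          (hbase (gen m 0 b hb))
        rw [conv_single, add_zero, map_nsmul, map_nsmul, AddMonoidHom.nsmul_apply, bracket_gen ha hb,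
          smul_smul, ← pow_succ'] at h1
        rw [hT]
        exact h1
      | one => rw [gen_zero (one_mem _)]; exact zero_mem _
      | mul a b ha hb h1 h2 => rw [gen_mul ha hb]; exact add_mem h1 h2
      | inv a ha h1 => rw [gen_inv ha]; exact neg_mem h1
  have hQN : Q N ≤ constants p (Ring G m) := by
    refine sup_le (iSup_le fun c => ?_) le_rfl
    rw [hbound _ _ hD]
    exact bot_le
  have hN : gam G N ≤ gam G (N + 1) := by
    intro x hx
    obtain ⟨c, hc⟩ := hQN ((hT N _).1 (hgen N x hx))
    have : Fact (1 < p) := ⟨(Fact.out : p.Prime).one_lt⟩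
    have h1 := congrFun hc 1
    rw [Pi.single_eq_of_ne one_ne_zero] at h1
    have h0 := congrFun hc 0
    rw [Pi.single_eq_same] at h0
    simp only [Pi.constAddMonoidHom_apply, Function.const_apply] at h0 h1
    rw [h1, gen_of_lt (show N < m by omega)] at h0
    have h2 := congrFun h0.symm ⟨N, by omega⟩
    rw [Pi.smul_apply, Pi.single_eq_same, Pi.zero_apply] at h2
    have h3 : Nat.card G • cls G x hx = 0 := by
      rw [cls, ← ofMul_pow, ← map_pow, ofMul_eq_zero]
      convert map_one (QuotientGroup.mk' ((gam G (N + 1)).subgroupOf (gam G N)))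
      exact Subtype.ext (by rw [SubmonoidClass.coe_pow]; exact pow_card_eq_one')
    have h4 : addOrderOf (cls G x hx) ∣ Nat.gcd (p ^ (N + 1)) (Nat.card G) :=
      Nat.dvd_gcd (addOrderOf_dvd_of_nsmul_eq_zero h2) (addOrderOf_dvd_of_nsmul_eq_zero h3)
    rw [(hcop.symm.pow_left (N + 1)).gcd_eq_one, Nat.dvd_one, AddMonoid.addOrderOf_eq_one_iff,
      cls_eq_zero_iff] at h4
    exact h4
  obtain ⟨c, hc⟩ := Subgroup.nilpotent_iff_lowerCentralSeries.1 (inferInstance : Group.IsNilpotent G)
  have hall : ∀ j, gam G N ≤ gam G (N + j) := by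
    intro j
    induction j with
    | zero => exact le_rfl
    | succ j ihj =>
      refine hN.trans ?_
      show ⁅gam G N, (⊤ : Subgroup G)⁆ ≤ ⁅gam G (N + j), (⊤ : Subgroup G)⁆
      exact commutator_mono ihj le_rfl
  exact le_bot_iff.1 ((hall c).trans ((gam_antitone G (Nat.le_add_left c N)).trans hc.le))

/-- A group with a fixed-point-free automorphism of prime order has order prime to it. -/
theorem coprime_card_of_fpf [Finite G] {p : ℕ} [hp : Fact p.Prime] (α : MulAut G) (hα : α ^ p = 1)
    (hfpf : ∀ g, α g = g → g = 1) : (Nat.card G).Coprime p := by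
  let A := Subgroup.zpowers α
  have hA : IsPGroup p A := by
    obtain ⟨k, -, hk⟩ := (Nat.dvd_prime_pow hp.out).1 (show orderOf α ∣ p ^ 1 by
      rw [pow_one]; exact orderOf_dvd_of_pow_eq_one hα)
    exact IsPGroup.of_card (n := k) (by rw [Nat.card_zpowers, hk])
  have h := hA.card_modEq_card_fixedPoints G
  have h1 : Nat.card (MulAction.fixedPoints A G) = 1 := by
    rw [Nat.card_eq_one_iff_unique]
    refine ⟨⟨fun a b => Subtype.ext ?_⟩, ⟨⟨1, fun a => map_one (a : MulAut G)⟩⟩⟩
    have key : ∀ c : MulAction.fixedPoints A G, (c : G) = 1 := fun c =>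
      hfpf _ (c.2 ⟨α, Subgroup.mem_zpowers α⟩)
    rw [key a, key b]
  rw [h1] at h
  rw [Nat.coprime_comm, hp.out.coprime_iff_not_dvd]
  intro hd
  have h2 : 0 ≡ 1 [MOD p] := (Nat.modEq_zero_iff_dvd.2 hd).symm.trans h
  exact hp.out.one_lt.ne' (Nat.eq_one_of_dvd_one ((Nat.modEq_zero_iff_dvd).1 h2.symm))

end Cfsg.Agent.LieGraded
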